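import Mathlib
import Groth.Prelude.Def_Pi1
import Groth.Prelude.Def_ega3
import Groth.Agent.Lib.Helper1.PushO3

/-! A generic section of an integral morphism to a normal integral scheme extends to a global
section (via the relative normalization of `X` in its function field). -/

universe u
set_option linter.style.haveILetI false
open CategoryTheory AlgebraicGeometry TopologicalSpace Opposite

namespace Groth.Agent.H8.NormSec

theorem stalkSpecializes_surjective_of_eq {X : Scheme.{u}} {x y : X} (e : x = y) (h : x ⤳ y) :
    Function.Surjective (X.presheaf.stalkSpecializes h) := by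
  subst e
  have : X.presheaf.stalkSpecializes h = 𝟙 _ := TopCat.Presheaf.stalkSpecializes_refl _ _
  rw [this]
  exact Function.surjective_id

variable {X : Scheme.{u}} [IsIntegral X]

instance : Subsingleton ↥(Spec (X.presheaf.stalk (genericPoint X))) := by
  change Subsingleton (PrimeSpectrum X.functionField)
  infer_instance

instance quasiCompact_fromSpecStalk_generic :
    QuasiCompact (X.fromSpecStalk (genericPoint X)) :=
  ⟨fun U _ _ => (Set.subsingleton_of_subsingleton).isCompact⟩

theorem fromSpecStalk_genericPoint :
    (X.fromSpecStalk (genericPoint X))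
      (genericPoint ↥(Spec (X.presheaf.stalk (genericPoint X)))) = genericPoint X := by
  rw [Subsingleton.elim (genericPoint ↥(Spec (X.presheaf.stalk (genericPoint X))))
    (IsLocalRing.closedPoint (X.presheaf.stalk (genericPoint X)))]
  exact Scheme.fromSpecStalk_closedPoint

/-- The key statement: an integral morphism to a normal integral scheme with a section over the
generic point has a section. -/
theorem exists_section (hX : Pi1.IsNormalScheme X) {Y : Scheme.{u}} (f : Y ⟶ X)
    [IsIntegralHom f] (σ : Spec (X.presheaf.stalk (genericPoint X)) ⟶ Y)
    (hσ : σ ≫ f = X.fromSpecStalk (genericPoint X)) : ∃ s : X ⟶ Y, s ≫ f = 𝟙 X := by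
  set f₀ := X.fromSpecStalk (genericPoint X) with hf₀
  have hdom : f₀.base (genericPoint ↥(Spec (X.presheaf.stalk (genericPoint X)))) ⤳
      genericPoint X := specializes_of_eq fromSpecStalk_genericPoint
  have hsurj : Function.Surjective
      (CohIII.stalkToFunctionField f₀ (genericPoint X) hdom) := by
    unfold CohIII.stalkToFunctionField
    rw [RingHom.coe_comp]
    exact (f₀.stalkMap_surjective _).comp
      (stalkSpecializes_surjective_of_eq fromSpecStalk_genericPoint hdom)
  haveI : IsIso f₀.fromNormalization :=
    Groth.Agent.H1.PushO.isIso_fromNormalization f₀ hdom hX hsurj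
  refine ⟨inv f₀.fromNormalization ≫ f₀.normalizationDesc σ f hσ.symm, ?_⟩
  rw [Category.assoc, Scheme.Hom.normalizationDesc_comp, IsIso.inv_hom_id]

end Groth.Agent.H8.NormSec
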