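import Mathlib
import Groth.Prelude.Def_Pi1
import Groth.Prelude.Def_NonAbH2
import Groth.Agent.Lib.Helper8.NormSec.Main
import Groth.Agent.Lib.Helper3.TorsorProp
import Groth.Agent.Lib.Helper3.FlatDesc
import Groth.Agent.Lib.Helper5.Descent.AffineHomDescent

/-! Extension of the structure group along a generically invertible homomorphism of finite flat
group schemes over a normal integral base: triviality descends. -/

universe u
set_option linter.style.haveILetI false
open CategoryTheory Limits MonoidalCategory CartesianMonoidalCategory AlgebraicGeometry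

namespace Groth.Agent.H8.NormSec

section Cart

variable {C : Type*} [Category C] [CartesianMonoidalCategory C]
variable {G G' P P' : C}

/-- `(γ', p) ↦ (γ' φ(p), p)` -/
def shearAlong (act' : G' ⊗ P' ⟶ P') (φ : P ⟶ P') : G' ⊗ P ⟶ P' ⊗ P :=
  lift ((G' ◁ φ) ≫ act') (snd G' P)

theorem shearAlong_comp_whiskerLeft (act' : G' ⊗ P' ⟶ P') (φ : P ⟶ P') :
    shearAlong act' φ ≫ (P' ◁ φ) = (G' ◁ φ) ≫ lift act' (snd G' P') := by
  apply CartesianMonoidalCategory.hom_ext
  · simp [shearAlong]
  · simp [shearAlong]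

theorem isIso_shearAlong (act' : G' ⊗ P' ⟶ P') (φ : P ⟶ P')
    [IsIso (lift act' (snd G' P'))] : IsIso (shearAlong act' φ) := by
  have h1' : inv (lift act' (snd G' P')) ≫ act' = fst P' P' := by
    rw [IsIso.inv_comp_eq, lift_fst]
  have h2' : inv (lift act' (snd G' P')) ≫ snd G' P' = snd P' P' := by
    rw [IsIso.inv_comp_eq, lift_snd]
  let w : P' ⊗ P ⟶ G' ⊗ P :=
    lift ((P' ◁ φ) ≫ inv (lift act' (snd G' P')) ≫ fst G' P') (snd P' P)
  have hw1 : w ≫ fst G' P = (P' ◁ φ) ≫ inv (lift act' (snd G' P')) ≫ fst G' P' := lift_fst _ _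
  have hw2 : w ≫ snd G' P = snd P' P := lift_snd _ _
  have hs1 : shearAlong act' φ ≫ fst P' P = (G' ◁ φ) ≫ act' := lift_fst _ _
  have hs2 : shearAlong act' φ ≫ snd P' P = snd G' P := lift_snd _ _
  have hw : w ≫ (G' ◁ φ) = (P' ◁ φ) ≫ inv (lift act' (snd G' P')) := by
    apply CartesianMonoidalCategory.hom_ext
    · rw [Category.assoc, whiskerLeft_fst, hw1, Category.assoc]
    · rw [Category.assoc, whiskerLeft_snd, ← Category.assoc, hw2, Category.assoc, h2',
        whiskerLeft_snd]
  refine ⟨w, ?_, ?_⟩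
  · apply CartesianMonoidalCategory.hom_ext
    · rw [Category.assoc, hw1, ← Category.assoc, ← Category.assoc,
        shearAlong_comp_whiskerLeft, Category.assoc, Category.assoc, IsIso.hom_inv_id_assoc,
        whiskerLeft_fst, Category.id_comp]
    · rw [Category.assoc, hw2, hs2, Category.id_comp]
  · apply CartesianMonoidalCategory.hom_ext
    · rw [Category.assoc, hs1, ← Category.assoc, hw, Category.assoc, h1', whiskerLeft_fst,
        Category.id_comp]
    · rw [Category.assoc, hs2, hw2, Category.id_comp]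

theorem shear_comp (act : G ⊗ P ⟶ P) (act' : G' ⊗ P' ⟶ P') (g : G ⟶ G') (φ : P ⟶ P')
    (hφ : act ≫ φ = lift (fst G P ≫ g) (snd G P ≫ φ) ≫ act') :
    lift act (snd G P) ≫ (φ ▷ P) = (g ▷ P) ≫ shearAlong act' φ := by
  have hl : lift (fst G P ≫ g) (snd G P ≫ φ) = (g ▷ P) ≫ (G' ◁ φ) := by
    apply CartesianMonoidalCategory.hom_ext <;> simp
  have hs1 : shearAlong act' φ ≫ fst P' P = (G' ◁ φ) ≫ act' := lift_fst _ _
  have hs2 : shearAlong act' φ ≫ snd P' P = snd G' P := lift_snd _ _
  apply CartesianMonoidalCategory.hom_ext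
  · rw [Category.assoc, whiskerRight_fst, lift_fst_assoc, hφ, hl, Category.assoc, Category.assoc,
      hs1]
  · rw [Category.assoc, whiskerRight_snd, lift_snd, Category.assoc, hs2, whiskerRight_snd]

variable [BraidedCategory C]

theorem isIso_whiskerRight_of_iso {A B W W' : C} (f : A ⟶ B) (e : W ≅ W') [IsIso (f ▷ W)] :
    IsIso (f ▷ W') := by
  have : f ▷ W' = (A ◁ e.inv) ≫ (f ▷ W) ≫ (B ◁ e.hom) := by
    rw [whisker_exchange_assoc]
    simp [← MonoidalCategory.whiskerLeft_comp]
  rw [this]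
  infer_instance

theorem isIso_whiskerRight_swap {A B Y Z : C} (f : A ⟶ B) [IsIso (f ▷ Y ▷ Z)] :
    IsIso (f ▷ Z ▷ Y) := by
  haveI : IsIso (f ▷ (Y ⊗ Z)) := by
    rw [whiskerRight_tensor]
    infer_instance
  haveI : IsIso (f ▷ (Z ⊗ Y)) := isIso_whiskerRight_of_iso f (β_ Y Z)
  rw [whiskerRight_tensor_symm]
  infer_instance

end Cart

section Descent

variable {S : Scheme.{u}}

theorem isPullback_whiskerRight {A B : Over S} (h : A ⟶ B) (Z : Over S) :
    IsPullback (h ▷ Z).left (pullback.fst A.hom Z.hom) (pullback.fst B.hom Z.hom) h.left := by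
  have t : IsPullback (pullback.snd B.hom Z.hom) (pullback.fst B.hom Z.hom) Z.hom B.hom :=
    (IsPullback.of_hasPullback B.hom Z.hom).flip
  have s : IsPullback ((h ▷ Z).left ≫ pullback.snd B.hom Z.hom) (pullback.fst A.hom Z.hom)
      Z.hom (h.left ≫ B.hom) := by
    rw [Over.whiskerRight_left_snd, Over.w]
    exact (IsPullback.of_hasPullback A.hom Z.hom).flip
  exact IsPullback.of_right s (Over.whiskerRight_left_fst h) t

theorem isIso_of_isIso_whiskerRight {A B : Over S} (h : A ⟶ B) (Z : Over S)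
    [Surjective Z.hom] [Flat Z.hom] [QuasiCompact Z.hom] [IsIso (h ▷ Z)] : IsIso h := by
  have sq := isPullback_whiskerRight h Z
  have hcov : (@Surjective ⊓ @Flat ⊓ @QuasiCompact : MorphismProperty Scheme.{u})
      (pullback.fst B.hom Z.hom) :=
    ⟨⟨inferInstance, inferInstance⟩, inferInstance⟩
  haveI : IsIso (h ▷ Z).left := (Over.forget S).map_isIso (h ▷ Z)
  have h1 : MorphismProperty.isomorphisms Scheme.{u} (h ▷ Z).left :=
    (MorphismProperty.isomorphisms.iff _).2 inferInstance
  have h2 : MorphismProperty.isomorphisms Scheme.{u} h.left :=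
    MorphismProperty.of_isPullback_of_descendsAlong
      (Q := (@Surjective ⊓ @Flat ⊓ @QuasiCompact : MorphismProperty Scheme.{u})) sq hcov h1
  haveI : IsIso ((Over.forget S).map h) := (MorphismProperty.isomorphisms.iff _).1 h2
  exact isIso_of_reflects_iso h (Over.forget S)

theorem isIso_whiskerRight_of_isIso_pullback_map {A B : Over S} {T : Scheme.{u}} (f : T ⟶ S)
    (h : A ⟶ B) [IsIso ((Over.pullback f).map h)] : IsIso (h ▷ (Over.mk f)) := by
  have e : (h ▷ (Over.mk f)).left = ((Over.pullback f).map h).left := by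
    apply pullback.hom_ext
    · rw [Over.whiskerRight_left_fst]
      simp only [Over.pullback_obj_left, Over.pullback_map_left]
      exact (pullback.lift_fst _ _ _).symm
    · rw [Over.whiskerRight_left_snd]
      simp only [Over.pullback_obj_left, Over.pullback_map_left]
      exact (pullback.lift_snd _ _ _).symm
  haveI : IsIso ((Over.forget S).map (h ▷ (Over.mk f))) := by
    change IsIso (h ▷ (Over.mk f)).left
    rw [e]
    exact (Over.forget T).map_isIso ((Over.pullback f).map h)
  exact isIso_of_reflects_iso (h ▷ (Over.mk f)) (Over.forget S)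

end Descent

section Main

variable {X : Scheme.{u}} [IsIntegral X]

theorem hasSection_of_push (hX : Pi1.IsNormalScheme X) (G G' : Over X) [GrpObj G] [GrpObj G']
    [IsFinite G.hom] [Flat G.hom]
    (g : G ⟶ G') (hg : IsIso ((Over.pullback (X.fromSpecStalk (genericPoint X))).map g))
    (P : Over X) (a : AlgGrp.Action G P) (hP : NonAbH1.IsTorsorFor Scheme.fppfPrecoverage a)
    (P' : Over X) (a' : AlgGrp.Action G' P')
    (hP' : NonAbH1.IsTorsorFor Scheme.fppfPrecoverage a')
    (hpush : NonAbH1.IsPushforwardAlongSch g a a') (htriv : NonAbH1.HasSectionOver P' (𝟙 X)) :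
    NonAbH1.HasSectionOver P (𝟙 X) := by
  obtain ⟨φ, hφ⟩ := hpush
  obtain ⟨s', hs'⟩ := htriv
  haveI hΨ : IsIso (lift a.act (snd G P)) := hP.1
  haveI hΨ' : IsIso (lift a'.act (snd G' P')) := hP'.1
  haveI := Groth.Agent.H3.FlatDesc.flat_descendsAlong_fppf.{u}
  have hfin : IsFinite P.hom :=
    Groth.Agent.H3.TorsorProp.hom_of_isTorsorFor a @IsFinite Scheme.fppfPrecoverage hP
      inferInstance
  have hflat : Flat P.hom :=
    Groth.Agent.H3.TorsorProp.hom_of_isTorsorFor a @Flat Scheme.fppfPrecoverage hP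
      inferInstance
  have hsurj : Surjective P.hom :=
    Groth.Agent.H3.TorsorProp.hom_of_isTorsorFor a @Surjective Scheme.fppfPrecoverage hP
      (Groth.Agent.H3.TorsorProp.surjective_hom (G := G))
  haveI : IsIntegralHom P.hom := inferInstance
  haveI : QuasiCompact P.hom := inferInstance
  set f₀ := X.fromSpecStalk (genericPoint X) with hf₀
  let T' : Over X := Over.mk f₀
  haveI : IsIso (shearAlong a'.act φ) := isIso_shearAlong a'.act φ
  have key : φ ▷ P = inv (lift a.act (snd G P)) ≫ (g ▷ P) ≫ shearAlong a'.act φ := by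
    rw [IsIso.eq_inv_comp]
    exact shear_comp a.act a'.act g φ hφ
  haveI : IsIso (g ▷ T') := isIso_whiskerRight_of_isIso_pullback_map f₀ g
  haveI : IsIso (g ▷ T' ▷ P) := inferInstance
  haveI : IsIso (g ▷ P ▷ T') := isIso_whiskerRight_swap (Y := T') (Z := P) g
  haveI : IsIso (φ ▷ P ▷ T') := by
    rw [key, comp_whiskerRight, comp_whiskerRight]
    infer_instance
  haveI : IsIso (φ ▷ T' ▷ P) := isIso_whiskerRight_swap (Y := P) (Z := T') φ
  haveI : IsIso (φ ▷ T') := isIso_of_isIso_whiskerRight (φ ▷ T') P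
  let t' : T' ⟶ P' := Over.homMk (f₀ ≫ s') (by simp [T', hs'])
  let t : T' ⟶ P := lift t' (𝟙 T') ≫ inv (φ ▷ T') ≫ fst P T'
  obtain ⟨s, hs⟩ := exists_section hX P.hom t.left (Over.w t)
  exact ⟨s, hs⟩

end Main

end Groth.Agent.H8.NormSec
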