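import Mathlib
import Groth.Prelude.Def_SekSuwa2
import Groth.Agent.Lib.Helper5.SekSuwa.EquivAdj

/-! `α^{λ,N} : G_{λ,N} → μ_N` becomes an isomorphism after base change to an algebra in which `λ`
is invertible (ring level). -/

universe u
set_option linter.style.haveILetI false
open TensorProduct SekSuwa

namespace Groth.Agent.H8.NormSec.SS

variable {R : Type u} [CommRing R] {lam : R} {N : ℕ} (h : DivCond lam N) (hN : 0 < N)
variable (L : Type u) [CommRing L] [Algebra R L] (hl : IsUnit (algebraMap R L lam))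

/-- the generator of `R[ℤ/N]` -/
noncomputable def gen (R : Type u) [CommRing R] (N : ℕ) : MonoidAlgebra R (Multiplicative (ZMod N)) :=
  MonoidAlgebra.single (Multiplicative.ofAdd (1 : ZMod N)) 1

theorem gen_pow (R : Type u) [CommRing R] (N : ℕ) : gen R N ^ N = 1 := by
  rw [gen, MonoidAlgebra.single_pow, one_pow, ← ofAdd_nsmul, nsmul_one, ZMod.natCast_self,
    ofAdd_zero, MonoidAlgebra.one_def]

theorem single_eq_gen_pow [NeZero N] (x : Multiplicative (ZMod N)) :
    (MonoidAlgebra.single x 1 : MonoidAlgebra R (Multiplicative (ZMod N))) =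
      gen R N ^ (Multiplicative.toAdd x).val := by
  rw [gen, MonoidAlgebra.single_pow, one_pow, ← ofAdd_nsmul, nsmul_one, ZMod.natCast_zmod_val,
    ofAdd_toAdd]

/-- the inverse of `λ` in `L` -/
noncomputable def li : L := ((hl.unit)⁻¹ : Lˣ)

include hl in
theorem lam_smul_li : lam • li L hl = 1 := by
  rw [Algebra.smul_def, li]
  exact IsUnit.mul_val_inv hl

/-- the point `(g - 1)/λ` -/
noncomputable def xpt : MonoidAlgebra R (Multiplicative (ZMod N)) ⊗[R] L :=
  (gen R N - 1) ⊗ₜ[R] li L hl

theorem one_add_smul_xpt :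
    1 + lam • xpt (N := N) L hl = gen R N ⊗ₜ[R] (1 : L) := by
  rw [xpt, ← TensorProduct.tmul_smul, lam_smul_li, Algebra.TensorProduct.one_def,
    ← TensorProduct.add_tmul]
  congr 1
  abel

theorem aeval_xpt : Polynomial.aeval (xpt (N := N) L hl) (psiPoly lam N h) = 0 := by
  have e := congrArg (Polynomial.aeval (xpt (N := N) L hl)) (psiPoly_spec h)
  simp only [map_mul, map_sub, map_pow, map_add, map_one, Polynomial.aeval_C,
    Polynomial.aeval_X] at e
  rw [← Algebra.smul_def lam, one_add_smul_xpt,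
    Algebra.TensorProduct.tmul_pow, gen_pow, one_pow, ← Algebra.TensorProduct.one_def, sub_self,
    ← map_pow] at e
  have hu : ((1 : MonoidAlgebra R (Multiplicative (ZMod N))) ⊗ₜ[R] (li L hl ^ N)) *
      algebraMap R _ (lam ^ N) = 1 := by
    rw [mul_comm, ← Algebra.smul_def, ← TensorProduct.tmul_smul, ← smul_pow, lam_smul_li, one_pow,
      Algebra.TensorProduct.one_def]
  calc Polynomial.aeval (xpt (N := N) L hl) (psiPoly lam N h)
      = (((1 : MonoidAlgebra R (Multiplicative (ZMod N))) ⊗ₜ[R] (li L hl ^ N)) *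
          algebraMap R _ (lam ^ N)) * Polynomial.aeval (xpt (N := N) L hl) (psiPoly lam N h) := by
        rw [hu, one_mul]
    _ = 0 := by rw [mul_assoc, e, mul_zero]

/-- `R[X]/(P) → R[ℤ/N] ⊗ L`, `root ↦ (g - 1)/λ` -/
noncomputable def xi' : AdjoinRoot (psiPoly lam N h) →ₐ[R]
    MonoidAlgebra R (Multiplicative (ZMod N)) ⊗[R] L :=
  AdjoinRoot.liftAlgHom (psiPoly lam N h) (Algebra.ofId R _) (xpt (N := N) L hl) (by
    have := aeval_xpt h L hl
    rw [Polynomial.aeval_def] at this
    exact this)

theorem xi'_root : xi' h L hl (AdjoinRoot.root _) = xpt (N := N) L hl := by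
  rw [xi', AdjoinRoot.liftAlgHom_root]

/-- `alphaNHom` as an algebra map -/
noncomputable def aN : MonoidAlgebra R (Multiplicative (ZMod N)) →ₐ[R] AK R lam N h :=
  (alphaNHom R lam N h : MonoidAlgebra R (Multiplicative (ZMod N)) →ₐ[R] AK R lam N h)

theorem aN_apply (b : MonoidAlgebra R (Multiplicative (ZMod N))) :
    aN h b = alphaNHom R lam N h b := rfl

/-- the base change of `alphaNHom` -/
noncomputable def Phi : MonoidAlgebra R (Multiplicative (ZMod N)) ⊗[R] L →ₐ[R] AK R lam N h ⊗[R] L :=
  Algebra.TensorProduct.map (aN h) (AlgHom.id R L)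

/-- the inverse -/
noncomputable def Xi : AK R lam N h ⊗[R] L →ₐ[R] MonoidAlgebra R (Multiplicative (ZMod N)) ⊗[R] L :=
  Algebra.TensorProduct.lift ((xi' h L hl).comp (H5SekSuwa.equivAdj h hN).toAlgHom)
    Algebra.TensorProduct.includeRight (fun _ _ => Commute.all _ _)

theorem Phi_xi' (d : AdjoinRoot (psiPoly lam N h)) :
    Phi h L (xi' h L hl d) = ((H5SekSuwa.equivAdj h hN).symm d) ⊗ₜ[R] (1 : L) := by
  have : (Phi h L).comp (xi' h L hl) =
      (Algebra.TensorProduct.includeLeft : AK R lam N h →ₐ[R] AK R lam N h ⊗[R] L).comp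
        (H5SekSuwa.equivAdj h hN).symm.toAlgHom := by
    apply AdjoinRoot.algHom_ext
    rw [AlgHom.comp_apply, xi'_root, xpt, Phi, Algebra.TensorProduct.map_tmul, AlgHom.id_apply,
      AlgHom.comp_apply]
    have e1 : (aN h) (gen R N - 1) =
        lam • (AK.t : AK R lam N h) := by
      rw [map_sub, map_one]
      have := alphaNHom_single_one R lam N h
      change alphaNHom R lam N h (gen R N) - 1 = _
      rw [gen, this]
      abel
    have e2 : (H5SekSuwa.equivAdj h hN).symm.toAlgHom (AdjoinRoot.root (psiPoly lam N h)) =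
        (AK.t : AK R lam N h) := H5SekSuwa.ofAdj_root h
    rw [e1, e2, TensorProduct.smul_tmul, lam_smul_li]
    rfl
  exact DFunLike.congr_fun this d

theorem xi'_alpha [NeZero N] (b : MonoidAlgebra R (Multiplicative (ZMod N))) :
    xi' h L hl (H5SekSuwa.equivAdj h hN (alphaNHom R lam N h b)) = b ⊗ₜ[R] (1 : L) := by
  have : ((xi' h L hl).comp (H5SekSuwa.equivAdj h hN).toAlgHom).comp
      (aN h) =
      (Algebra.TensorProduct.includeLeft :
        MonoidAlgebra R (Multiplicative (ZMod N)) →ₐ[R] _ ⊗[R] L) := by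
    refine MonoidAlgebra.algHom_ext (fun x => ?_) (Subsingleton.elim _ _)
    rw [single_eq_gen_pow, map_pow, map_pow]
    congr 1
    rw [AlgHom.comp_apply, AlgHom.comp_apply]
    have e1 : (aN h) (gen R N) =
        1 + lam • (AK.t : AK R lam N h) := alphaNHom_single_one R lam N h
    have e2 : (H5SekSuwa.equivAdj h hN).toAlgHom (AK.t : AK R lam N h) =
        AdjoinRoot.root (psiPoly lam N h) := H5SekSuwa.toAdj_t h hN
    rw [e1, map_add, map_one, map_smul, e2, map_add, map_one, map_smul, xi'_root,
      one_add_smul_xpt]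
    rfl
  exact DFunLike.congr_fun this b

theorem Xi_Phi [NeZero N] (z : MonoidAlgebra R (Multiplicative (ZMod N)) ⊗[R] L) :
    Xi h hN L hl (Phi h L z) = z := by
  induction z using TensorProduct.induction_on with
  | zero => simp
  | tmul b l =>
    rw [Phi, Algebra.TensorProduct.map_tmul, Xi, Algebra.TensorProduct.lift_tmul, AlgHom.id_apply,
      AlgHom.comp_apply]
    have := xi'_alpha h hN L hl b
    change xi' h L hl (H5SekSuwa.equivAdj h hN (alphaNHom R lam N h b)) *
      Algebra.TensorProduct.includeRight l = _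
    rw [this, Algebra.TensorProduct.includeRight_apply, Algebra.TensorProduct.tmul_mul_tmul,
      mul_one, one_mul]
  | add x y hx hy => rw [map_add, map_add, hx, hy]

theorem Phi_Xi (w : AK R lam N h ⊗[R] L) : Phi h L (Xi h hN L hl w) = w := by
  induction w using TensorProduct.induction_on with
  | zero => simp
  | tmul c l =>
    rw [Xi, Algebra.TensorProduct.lift_tmul, map_mul, AlgHom.comp_apply]
    have := Phi_xi' h hN L hl (H5SekSuwa.equivAdj h hN c)
    change Phi h L (xi' h L hl (H5SekSuwa.equivAdj h hN c)) *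
      Phi h L (Algebra.TensorProduct.includeRight l) = _
    rw [this, AlgEquiv.symm_apply_apply, Algebra.TensorProduct.includeRight_apply, Phi,
      Algebra.TensorProduct.map_tmul, map_one, AlgHom.id_apply,
      Algebra.TensorProduct.tmul_mul_tmul, mul_one, one_mul]
  | add x y hx hy => rw [map_add, map_add, hx, hy]

include hN hl in
theorem bijective_Phi [NeZero N] : Function.Bijective (Phi h L) :=
  Function.bijective_iff_has_inverse.mpr
    ⟨Xi h hN L hl, Xi_Phi h hN L hl, Phi_Xi h hN L hl⟩

end Groth.Agent.H8.NormSec.SS
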