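import Mathlib
import Groth.Prelude.Def_SekSuwa2
import Groth.Prelude.Def_Red
import Groth.Agent.Lib.Helper8.NormSec.SSAlg
import Groth.Agent.Lib.Helper8.NormSec.Push
import Groth.Agent.Lib.Helper5.SekSuwa.FinFree

/-! S14688: torsors under `G_{λ,N}` over a normal integral flat `R`-scheme which become trivial
after pushing along `α^{λ,N}` are trivial. -/

universe u
set_option linter.style.haveILetI false
open CategoryTheory Limits AlgebraicGeometry TensorProduct SekSuwa

namespace Groth.Agent.H8.NormSec.SS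

section PartB

variable {R : Type u} [CommRing R] {B₁ B₂ : Type u} [CommRing B₁] [CommRing B₂]
  [Bialgebra R B₁] [Bialgebra R B₂]

theorem isIso_pullback_map_specHom (φ : B₁ →ₐc[R] B₂) (L : Type u) [CommRing L] [Algebra R L]
    (hbij : Function.Bijective
      (Algebra.TensorProduct.map (φ : B₁ →ₐ[R] B₂) (AlgHom.id R L))) :
    IsIso ((Over.pullback (Spec.map (CommRingCat.ofHom (algebraMap R L)))).map (specHom φ)) := by
  set Φ := Algebra.TensorProduct.map (φ : B₁ →ₐ[R] B₂) (AlgHom.id R L) with hΦ
  haveI : IsIso (CommRingCat.ofHom Φ.toRingHom) :=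
    (ConcreteCategory.isIso_iff_bijective _).mpr hbij
  set u := Spec.map (CommRingCat.ofHom (algebraMap R L)) with hu
  let m : pullback (Spec.map (CommRingCat.ofHom (algebraMap R B₂))) u ⟶
      pullback (Spec.map (CommRingCat.ofHom (algebraMap R B₁))) u :=
    ((Over.pullback u).map (specHom φ)).left
  have h1 : m ≫ pullback.fst _ _ =
      pullback.fst _ _ ≫ Spec.map (CommRingCat.ofHom (φ : B₁ →+* B₂)) :=
    pullback.lift_fst _ _ _
  have h2 : m ≫ pullback.snd _ _ = pullback.snd _ _ := pullback.lift_snd _ _ _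
  have hm : m = (pullbackSpecIso R B₂ L).hom ≫ Spec.map (CommRingCat.ofHom Φ.toRingHom) ≫
      (pullbackSpecIso R B₁ L).inv := by
    rw [← Iso.inv_comp_eq]
    apply pullback.hom_ext
    · rw [Category.assoc, h1, pullbackSpecIso_inv_fst_assoc, Category.assoc,
        pullbackSpecIso_inv_fst, ← Spec.map_comp, ← Spec.map_comp]
      congr 1
      all_goals (ext b; simp [Φ])
    · rw [Category.assoc, h2, pullbackSpecIso_inv_snd, Category.assoc,
        pullbackSpecIso_inv_snd, ← Spec.map_comp]
      congr 1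
      all_goals (ext b; simp [Φ])
  haveI : IsIso m := by
    rw [hm]
    infer_instance
  haveI : IsIso ((Over.forget _).map ((Over.pullback u).map (specHom φ))) := ‹IsIso m›
  exact isIso_of_reflects_iso ((Over.pullback u).map (specHom φ)) (Over.forget _)

end PartB

section PartC

variable {R : Type u} [CommRing R] [IsDomain R] {X : Scheme.{u}} [IsIntegral X]

theorem map_genericPoint (f : X ⟶ Spec (CommRingCat.of R)) [Flat f] :
    (f.base (genericPoint X) : PrimeSpectrum R).asIdeal = ⊥ := by
  let ξ : PrimeSpectrum R := ⟨⊥, Ideal.isPrime_bot⟩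
  have hs : (ξ : ↥(Spec (CommRingCat.of R))) ⤳ f.base (genericPoint X) := by
    apply (PrimeSpectrum.le_iff_specializes ξ _).mp
    exact bot_le
  obtain ⟨x', hx', hfx'⟩ := Flat.generalizingMap f hs
  have : x' = genericPoint X :=
    (hx'.antisymm (genericPoint_specializes x')).eq
  rw [this] at hfx'
  rw [hfx']

theorem isUnit_generic (f : X ⟶ Spec (CommRingCat.of R)) [Flat f] (r : R) (hr : r ≠ 0) :
    IsUnit ((Spec.preimage (X.fromSpecStalk (genericPoint X) ≫ f)).hom r) := by
  set ψ := Spec.preimage (X.fromSpecStalk (genericPoint X) ≫ f) with hψ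
  have hψ' : Spec.map ψ = X.fromSpecStalk (genericPoint X) ≫ f := Spec.map_preimage _
  rw [isUnit_iff_ne_zero]
  intro h0
  apply hr
  have hpt : (Spec.map ψ).base (IsLocalRing.closedPoint (X.presheaf.stalk (genericPoint X))) =
      f.base (genericPoint X) := by
    rw [hψ']
    change f.base ((X.fromSpecStalk (genericPoint X)).base _) = _
    congr 1
    exact Scheme.fromSpecStalk_closedPoint
  have hmem : r ∈ ((Spec.map ψ).base
      (IsLocalRing.closedPoint (X.presheaf.stalk (genericPoint X))) : PrimeSpectrum R).asIdeal := by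
    change r ∈ Ideal.comap ψ.hom (IsLocalRing.maximalIdeal _)
    rw [Ideal.mem_comap, h0]
    exact Ideal.zero_mem _
  rw [hpt, map_genericPoint f] at hmem
  exact hmem

end PartC

section Main

theorem main14688 (R : Type u) [CommRing R] [IsDomain R]
    (N : ℕ) (hN : 0 < N) (lam : R) (h : SekSuwa.DivCond lam N)
    (X : Scheme.{u}) [IsIntegral X] (hX : Pi1.IsNormalScheme X)
    (f : X ⟶ Spec (CommRingCat.of R)) [Flat f]
    (P : Over X) (a : AlgGrp.Action (Red.bc f (SekSuwa.GK R lam N h)) P)
    (hP : NonAbH1.IsTorsorFor Scheme.fppfPrecoverage a)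
    (P' : Over X) (a' : AlgGrp.Action (Red.bc f (Red.diag R (ZMod N))) P')
    (hP' : NonAbH1.IsTorsorFor Scheme.fppfPrecoverage a')
    (hpush : NonAbH1.IsPushforwardAlongSch
      ((Over.pullback f).map (SekSuwa.alphaN R lam N h)) a a')
    (htriv : NonAbH1.HasSectionOver P' (𝟙 X)) :
    NonAbH1.HasSectionOver P (𝟙 X) := by
  haveI : NeZero N := ⟨hN.ne'⟩
  obtain ⟨⟨hfin, hflat, -⟩, -⟩ := H5SekSuwa.main14694 R lam N hN h
  haveI : IsFinite (Red.bc f (GK R lam N h)).hom := by
    change IsFinite (pullback.snd (GK R lam N h).hom f)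
    infer_instance
  haveI : Flat (Red.bc f (GK R lam N h)).hom := by
    change Flat (pullback.snd (GK R lam N h).hom f)
    infer_instance
  refine Groth.Agent.H8.NormSec.hasSection_of_push hX _ _
    ((Over.pullback f).map (alphaN R lam N h)) ?_ P a hP P' a' hP' hpush htriv
  set f₀ := X.fromSpecStalk (genericPoint X) with hf₀
  set ψ := Spec.preimage (f₀ ≫ f) with hψ
  have hψ' : Spec.map ψ = f₀ ≫ f := Spec.map_preimage _
  letI : Algebra R ↑(X.presheaf.stalk (genericPoint X)) := ψ.hom.toAlgebra
  have hl : IsUnit (algebraMap R ↑(X.presheaf.stalk (genericPoint X)) lam) :=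
    isUnit_generic f lam (nonZeroDivisors.ne_zero h.nzd)
  have hb := bijective_Phi h hN ↑(X.presheaf.stalk (genericPoint X)) hl
  have h1 := isIso_pullback_map_specHom (alphaNHom R lam N h)
    ↑(X.presheaf.stalk (genericPoint X)) hb
  have h2 : IsIso ((Over.pullback (Spec.map ψ)).map (alphaN R lam N h)) := h1
  rw [hψ'] at h2
  exact (NatIso.isIso_map_iff (Over.pullbackComp f₀ f) (alphaN R lam N h)).mp h2

end Main

end Groth.Agent.H8.NormSec.SS
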